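import Mathlib.GroupTheory.Sylow
import Mathlib.GroupTheory.SchurZassenhaus
import Cfsg.Prelude.Def_KGroupFacts
import Cfsg.Agent.H967.CopConj

/-!
# S4981, RED: conjugating `{p, q}`-groups of automorphisms into abelian groups (helper55)

* `conj_le'` : `CopConj.conj_le` with control on the conjugating element;
* `hall_conj` : Hall subgroups of solvable groups;
* `pip n Γ` : the elements of an abelian group killed by a power of `n`;
* `conj_main` : `D` a group of automorphisms which is a `π(n)`-group modulo inner automorphisms, `Φ ≤ D` a `q`-group, `q`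
  prime to `|S|`, `Γ` an abelian group acting on `S` whose `π(n)`-part has the same order as the one of `Out S`: a conjugate
  of `Φ` is contained in the image of `Γ`, and the same conjugate of `D` in the product of this image and `Inn S`.
-/

set_option autoImplicit false
set_option linter.unusedVariables false

open scoped Pointwise

namespace Cfsg.Agent.H55.PQ.Red

open Cfsg.Agent.H967.CopConj

universe u v

/-- as `CopConj.conj_le`, with control on the conjugating element -/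
theorem conj_le' {M : Type u} [Group M] [Finite M] (I : Subgroup M) [I.Normal] (H : Subgroup M)
    (hs : Group.IsSolvable H) (hH : (Nat.card H).Coprime (Nat.card I)) (A : Subgroup M)
    (hA : (Nat.card A).Coprime (Nat.card I)) (hle : A ≤ H ⊔ I) : ∃ g ∈ A ⊔ I, MulAut.conj g • A ≤ H := by
  set S := A ⊔ I with hS
  have hIS : I ≤ S := le_sup_right
  have hAS : A ≤ S := le_sup_left
  set H1 := H ⊓ S with hH1
  -- `H1 ⊔ I = S`
  have h1 : H1 ⊔ I = S := by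
    apply le_antisymm (sup_le inf_le_right hIS)
    intro x hx
    have hx1 : x ∈ H ⊔ I := (sup_le hle le_sup_right : S ≤ H ⊔ I) hx
    rw [← SetLike.mem_coe, Subgroup.mul_normal] at hx1
    obtain ⟨h, hh, i, hi, rfl⟩ := hx1
    refine mul_mem (Subgroup.mem_sup_left (Subgroup.mem_inf.2 ⟨hh, ?_⟩)) (Subgroup.mem_sup_right hi)
    have h2 := mul_mem hx (inv_mem (hIS hi))
    rwa [mul_inv_cancel_right] at h2
  have hcard : ∀ B : Subgroup M, (Nat.card B).Coprime (Nat.card I) → B ≤ S → B ⊔ I = S →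
      Subgroup.IsComplement' (I.subgroupOf S) (B.subgroupOf S) := by
    intro B hB hBS hBI
    apply Subgroup.isComplement'_of_disjoint_and_mul_eq_univ
    · rw [disjoint_iff, eq_bot_iff]
      intro x hx
      have hx1 : (x : M) ∈ I ⊓ B := ⟨hx.1, hx.2⟩
      have h2 : I ⊓ B = ⊥ := (Subgroup.disjoint_of_coprime_natCard hB.symm).eq_bot
      rw [h2, Subgroup.mem_bot] at hx1
      exact Subgroup.mem_bot.2 (Subtype.ext hx1)
    · rw [Set.eq_univ_iff_forall]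
      intro x
      have hx1 : (x : M) ∈ I ⊔ B := by rw [sup_comm, hBI]; exact x.2
      rw [← SetLike.mem_coe, Subgroup.normal_mul] at hx1
      obtain ⟨i, hi, b, hb, hib⟩ := hx1
      exact ⟨⟨i, hIS hi⟩, hi, ⟨b, hBS hb⟩, hb, Subtype.ext hib⟩
  have hc1 := hcard A hA hAS rfl
  have hH1c : (Nat.card H1).Coprime (Nat.card I) :=
    Nat.Coprime.coprime_dvd_left (Subgroup.card_dvd_of_le inf_le_left) hH
  have hc2 := hcard H1 hH1c inf_le_right h1
  have hI1 : Nat.card (I.subgroupOf S) = Nat.card I := Nat.card_congr (Subgroup.subgroupOfEquivOfLe hIS).toEquiv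
  have hA1 : Nat.card (A.subgroupOf S) = Nat.card A := Nat.card_congr (Subgroup.subgroupOfEquivOfLe hAS).toEquiv
  have hcop : (Nat.card (I.subgroupOf S)).Coprime (I.subgroupOf S).index := by
    rw [hc1.symm.index_eq_card, hI1, hA1]
    exact hA.symm
  have hsolv : Group.IsSolvable (S ⧸ I.subgroupOf S) := by
    have hs2 : Group.IsSolvable H1 :=
      Group.isSolvable_of_isSolvable_injective (Subgroup.inclusion_injective (inf_le_left : H1 ≤ H))
    have hs1 : Group.IsSolvable (H1.subgroupOf S) :=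
      Group.isSolvable_of_isSolvable_injective
        (f := (Subgroup.subgroupOfEquivOfLe (inf_le_right : H1 ≤ S)).toMonoidHom)
        (Subgroup.subgroupOfEquivOfLe (inf_le_right : H1 ≤ S)).injective
    exact Group.isSolvable_of_surjective (f := (hc2.symm.QuotientMulEquiv).symm.toMonoidHom)
      hc2.symm.QuotientMulEquiv.symm.surjective
  obtain ⟨s, hs1⟩ := Cfsg.Agent.Solvable.SchurZassenhausConj.conj_of_solvable (I.subgroupOf S) hcop (Or.inr hsolv) _ _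
    hc1 hc2
  refine ⟨s, s.2, ?_⟩
  have h3 := Cfsg.Agent.Solvable.SchurZassenhausConj.conj_of_conj_subgroupOf S A H1 hAS inf_le_right s hs1
  rw [h3]
  exact inf_le_left

/-- Hall's theorem in a solvable group -/
theorem hall_conj {M : Type u} [Group M] [Finite M] (hs : Group.IsSolvable M) {n : ℕ} (K B : Subgroup M)
    (hK : ∀ r : ℕ, r.Prime → r ∣ Nat.card K → r ∣ n) (hKi : ∀ r : ℕ, r.Prime → r ∣ n → ¬ r ∣ K.index)
    (hB : ∀ r : ℕ, r.Prime → r ∣ Nat.card B → r ∣ n) : ∃ g : M, MulAut.conj g • B ≤ K := by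
  have hco : ∀ L : Subgroup M, (∀ r : ℕ, r.Prime → r ∣ Nat.card L → r ∣ n) → (Nat.card L).Coprime K.index := by
    intro L hL
    rw [Nat.coprime_iff_gcd_eq_one]
    by_contra hne
    obtain ⟨r, hr, hrd⟩ := Nat.exists_prime_and_dvd hne
    exact hKi r hr (hL r hr (hrd.trans (Nat.gcd_dvd_left _ _))) (hrd.trans (Nat.gcd_dvd_right _ _))
  have hG : Nat.card M = Nat.card K * K.index := (Subgroup.card_mul_index K).symm
  obtain ⟨L, hL, hBL⟩ := Cfsg.Agent.S0005.result (Nat.card K) K.index hG (hco K hK) B (hco B hB)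
  obtain ⟨g, hg⟩ := Cfsg.Agent.S0004.result (Nat.card K) K.index hG (hco K hK) L K hL rfl
  refine ⟨g, ?_⟩
  rw [← hg]
  exact Subgroup.pointwise_smul_le_pointwise_smul_iff.2 hBL

/-- the elements of an abelian group killed by a power of `n` -/
def pip (n : ℕ) (Γ : Type v) [Group Γ] (hc : ∀ a b : Γ, a * b = b * a) : Subgroup Γ where
  carrier := {γ | ∃ k : ℕ, γ ^ (n ^ k) = 1}
  mul_mem' := by
    rintro a b ⟨k, hk⟩ ⟨j, hj⟩
    refine ⟨k + j, ?_⟩
    have h1 : Commute a b := hc a b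
    rw [h1.mul_pow, pow_add, pow_mul, hk, one_pow, one_mul, mul_comm (n ^ k), pow_mul, hj, one_pow]
  one_mem' := ⟨0, by rw [one_pow]⟩
  inv_mem' := by
    rintro a ⟨k, hk⟩
    exact ⟨k, by rw [inv_pow, hk, inv_one]⟩

section pip

variable {n : ℕ} {Γ : Type v} [Group Γ] {hc : ∀ a b : Γ, a * b = b * a}

theorem mem_pip {γ : Γ} : γ ∈ pip n Γ hc ↔ ∃ k : ℕ, γ ^ (n ^ k) = 1 := Iff.rfl

theorem dvd_of_dvd_card_pip [Finite Γ] {r : ℕ} (hr : r.Prime) (h : r ∣ Nat.card (pip n Γ hc)) : r ∣ n := by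
  have := Fact.mk hr
  obtain ⟨x, hx⟩ := exists_prime_orderOf_dvd_card' r h
  obtain ⟨k, hk⟩ := x.2
  have h1 : r ∣ n ^ k := by
    rw [← hx, ← Subgroup.orderOf_coe]
    exact orderOf_dvd_of_pow_eq_one hk
  exact hr.dvd_of_dvd_pow h1

theorem pow_dvd_card_pip [Finite Γ] {r : ℕ} (hr : r.Prime) (hn : r ∣ n) {k : ℕ} (h : r ^ k ∣ Nat.card Γ) :
    r ^ k ∣ Nat.card (pip n Γ hc) := by
  have := Fact.mk hr
  obtain ⟨Q⟩ : Nonempty (Sylow r Γ) := inferInstance
  have h1 : (Q : Subgroup Γ) ≤ pip n Γ hc := by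
    intro x hx
    obtain ⟨j, hj⟩ := Q.isPGroup' ⟨x, hx⟩
    have hj' : x ^ r ^ j = 1 := congrArg Subtype.val hj
    refine ⟨j, ?_⟩
    obtain ⟨c, hc'⟩ := pow_dvd_pow_of_dvd hn j
    rw [hc', pow_mul, hj', one_pow]
  have h2 : r ^ k ∣ Nat.card Q := by
    rw [Q.card_eq_multiplicity]
    exact pow_dvd_pow _ ((hr.pow_dvd_iff_le_factorization Nat.card_pos.ne').1 h)
  exact h2.trans (Subgroup.card_dvd_of_le h1)

end pip

/-- **conjugation into an abelian group of automorphisms** -/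
theorem conj_main {S : Type u} [Group S] [Finite S] (hs : Group.IsSolvable (Cfsg.Out S)) {Γ : Type v} [Group Γ]
    [Finite Γ] (hc : ∀ a b : Γ, a * b = b * a) (Ψ : Γ →* MulAut S) {n : ℕ}
    (hinn : ∀ γ : Γ, (orderOf γ).Prime → orderOf γ ∣ n → Ψ γ ∉ Cfsg.Inn S)
    (hn : ∀ r : ℕ, r.Prime → r ∣ n → ∀ k : ℕ, r ^ k ∣ Nat.card (Cfsg.Out S) → r ^ k ∣ Nat.card Γ)
    {q : ℕ} (hq : q.Prime) (hqn : q ∣ n) (hqS : ¬ q ∣ Nat.card S) {Φ D : Subgroup (MulAut S)} (hΦ : IsPGroup q Φ)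
    (hΦD : Φ ≤ D)
    (hD : ∀ x ∈ D, ∃ N : ℕ, (∀ r : ℕ, r.Prime → r ∣ N → r ∣ n) ∧ x ^ N ∈ Cfsg.Inn S) :
    ∃ g : MulAut S, (∀ x ∈ D, ∃ (s : S) (γ : Γ), (∀ m : ℕ, x ^ m ∈ Cfsg.Inn S → γ ^ m = 1) ∧
        g * x * g⁻¹ = MulAut.conj s * Ψ γ) ∧
      (∀ f ∈ Φ, ∃ γ : Γ, (∃ k : ℕ, γ ^ (q ^ k) = 1) ∧ g * f * g⁻¹ = Ψ γ) := by
  have hfin : Finite (MulAut S) := inferInstance
  have hqf := Fact.mk hq
  set I := Cfsg.Inn S with hI
  have hIn : I.Normal := inferInstance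
  set mk := QuotientGroup.mk' I with hmk
  set H := pip n Γ hc with hH
  set θ : Γ →* Cfsg.Out S := mk.comp Ψ with hθ
  -- `θ` is injective on `H`
  have hθ1 : ∀ γ ∈ H, θ γ = 1 → γ = 1 := by
    intro γ hγ h1
    have h2 : Ψ γ ∈ I := (QuotientGroup.eq_one_iff (Ψ γ)).1 h1
    by_contra hne
    have ho : orderOf γ ≠ 1 := fun h => hne (orderOf_eq_one_iff.1 h)
    obtain ⟨r, hr, hrd⟩ := Nat.exists_prime_and_dvd ho
    obtain ⟨k, hk⟩ := hγ
    have hrn : r ∣ n := hr.dvd_of_dvd_pow (hrd.trans (orderOf_dvd_of_pow_eq_one hk))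
    have h3 : orderOf (γ ^ (orderOf γ / r)) = r := by
      rw [orderOf_pow_of_dvd (Nat.div_pos (Nat.le_of_dvd (orderOf_pos γ) hrd) hr.pos).ne' (Nat.div_dvd_of_dvd hrd),
        Nat.div_div_self hrd (orderOf_pos γ).ne']
    refine hinn (γ ^ (orderOf γ / r)) (by rw [h3]; exact hr) (by rw [h3]; exact hrn) ?_
    rw [map_pow]
    exact pow_mem h2 _
  set K := H.map θ with hK
  have hcardK : Nat.card K = Nat.card H := by
    have hinj : Function.Injective (θ.comp H.subtype) := by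
      rw [injective_iff_map_eq_one]
      intro x hx
      exact Subtype.ext (hθ1 x x.2 hx)
    have h1 : K = (θ.comp H.subtype).range := by rw [MonoidHom.range_comp, Subgroup.range_subtype]
    rw [h1]
    exact (Nat.card_congr (MonoidHom.ofInjective hinj).toEquiv).symm
  have hKn : ∀ r : ℕ, r.Prime → r ∣ Nat.card K → r ∣ n := by
    intro r hr h
    rw [hcardK] at h
    exact dvd_of_dvd_card_pip hr h
  have hKi : ∀ r : ℕ, r.Prime → r ∣ n → ¬ r ∣ K.index := by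
    intro r hr hrn h
    have h1 : r ^ (Nat.card K).factorization r ∣ Nat.card K := Nat.ordProj_dvd _ _
    have h2 : r ^ ((Nat.card K).factorization r + 1) ∣ Nat.card (Cfsg.Out S) := by
      rw [← Subgroup.card_mul_index K, pow_succ]
      exact mul_dvd_mul h1 h
    have h3 := pow_dvd_card_pip (hc := hc) hr hrn (hn r hr hrn _ h2)
    rw [← hH, ← hcardK] at h3
    exact Nat.pow_succ_factorization_not_dvd Nat.card_pos.ne' hr h3
  have hBn : ∀ r : ℕ, r.Prime → r ∣ Nat.card (D.map mk) → r ∣ n := by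
    intro r hr h
    have := Fact.mk hr
    obtain ⟨x, hx⟩ := exists_prime_orderOf_dvd_card' r h
    obtain ⟨y, hy, hyx⟩ := x.2
    obtain ⟨N, hN, hyN⟩ := hD y hy
    refine hN r hr ?_
    rw [← hx, ← Subgroup.orderOf_coe, ← hyx]
    apply orderOf_dvd_of_pow_eq_one
    rw [← map_pow]
    exact (QuotientGroup.eq_one_iff _).2 hyN
  obtain ⟨g', hg'⟩ := hall_conj hs K (D.map mk) hKn hKi hBn
  obtain ⟨g₁, rfl⟩ := QuotientGroup.mk'_surjective I g'
  have hD1 : ∀ x ∈ D, g₁ * x * g₁⁻¹ ∈ K.comap mk := by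
    intro x hx
    have h1 : mk (g₁ * x * g₁⁻¹) ∈ K := by
      apply hg'
      rw [Subgroup.mem_smul_pointwise_iff_exists]
      refine ⟨mk x, Subgroup.mem_map_of_mem _ hx, ?_⟩
      rw [MulAut.smul_def, MulAut.conj_apply, map_mul, map_mul, map_inv]
    exact h1
  have hIK : I ≤ K.comap mk := by
    intro x hx
    have h1 : mk x = 1 := (QuotientGroup.eq_one_iff _).2 hx
    show mk x ∈ K
    rw [h1]
    exact one_mem K
  -- the conjugate of `Φ`
  set Φ₁ : Subgroup (MulAut S) := MulAut.conj g₁ • Φ with hΦ₁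
  set Hq := pip q Γ hc with hHq
  set H' := Hq.map Ψ with hH'
  have hmem₁ : ∀ f ∈ Φ₁, ∃ f₀ ∈ Φ, f = g₁ * f₀ * g₁⁻¹ := by
    intro f hf
    rw [hΦ₁, Subgroup.mem_smul_pointwise_iff_exists] at hf
    obtain ⟨f₀, hf₀, rfl⟩ := hf
    exact ⟨f₀, hf₀, by rw [MulAut.smul_def, MulAut.conj_apply]⟩
  have hΦq : ∀ f ∈ Φ₁, ∃ k : ℕ, f ^ (q ^ k) = 1 := by
    intro f hf
    obtain ⟨f₀, hf₀, rfl⟩ := hmem₁ f hf
    obtain ⟨k, hk⟩ := hΦ ⟨f₀, hf₀⟩
    have hk' : f₀ ^ q ^ k = 1 := congrArg Subtype.val hk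
    exact ⟨k, by rw [conj_pow, hk', mul_one, mul_inv_cancel]⟩
  have hΦK : Φ₁ ≤ K.comap mk := by
    intro f hf
    obtain ⟨f₀, hf₀, rfl⟩ := hmem₁ f hf
    exact hD1 f₀ (hΦD hf₀)
  have hle : Φ₁ ≤ H' ⊔ I := by
    intro f hf
    obtain ⟨h, hh, hhf⟩ := hΦK hf
    obtain ⟨k, hk⟩ := hΦq f hf
    have h1 : h ^ (q ^ k) = 1 := by
      apply hθ1 _ (pow_mem hh _)
      have h2 : θ h = mk f := hhf
      rw [map_pow, h2, ← map_pow, hk, map_one]
    have h3 : (Ψ h)⁻¹ * f ∈ I := by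
      rw [← QuotientGroup.eq_one_iff]
      show mk ((Ψ h)⁻¹ * f) = 1
      rw [map_mul, map_inv]
      have h2 : mk (Ψ h) = mk f := hhf
      rw [h2, inv_mul_cancel]
    have h4 : f = Ψ h * ((Ψ h)⁻¹ * f) := by rw [mul_inv_cancel_left]
    rw [h4]
    exact mul_mem (Subgroup.mem_sup_left ⟨h, ⟨k, h1⟩, rfl⟩) (Subgroup.mem_sup_right h3)
  have hIS : Nat.card I ∣ Nat.card S := Subgroup.card_range_dvd (MulAut.conj : S →* MulAut S)
  have hcop : ∀ L : Subgroup (MulAut S), (∀ x ∈ L, ∃ k : ℕ, x ^ (q ^ k) = 1) → (Nat.card L).Coprime (Nat.card I) := by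
    intro L hL
    have h1 : IsPGroup q L := fun x => by
      obtain ⟨k, hk⟩ := hL x x.2
      exact ⟨k, Subtype.ext hk⟩
    obtain ⟨k, hk⟩ := IsPGroup.iff_card.1 h1
    rw [hk]
    exact Nat.Coprime.pow_left _ ((Nat.Prime.coprime_iff_not_dvd hq).2 fun h => hqS (h.trans hIS))
  have hH'q : ∀ x ∈ H', ∃ k : ℕ, x ^ (q ^ k) = 1 := by
    rintro _ ⟨h, ⟨k, hk⟩, rfl⟩
    exact ⟨k, by rw [← map_pow, hk, map_one]⟩
  have hH's : Group.IsSolvable H' := by
    apply Group.isSolvable_of_comm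
    rintro ⟨_, a, ha, rfl⟩ ⟨_, b, hb, rfl⟩
    apply Subtype.ext
    show Ψ a * Ψ b = Ψ b * Ψ a
    rw [← map_mul, hc, map_mul]
  obtain ⟨g₂, hg₂, hg₂'⟩ := conj_le' I H' hH's (hcop H' hH'q) Φ₁ (hcop Φ₁ hΦq) hle
  have hg₂K : g₂ ∈ K.comap mk := (sup_le hΦK hIK) hg₂
  refine ⟨g₂ * g₁, ?_, ?_⟩
  · intro x hx
    have h1 : g₂ * g₁ * x * (g₂ * g₁)⁻¹ ∈ K.comap mk := by
      have h2 : g₂ * g₁ * x * (g₂ * g₁)⁻¹ = g₂ * (g₁ * x * g₁⁻¹) * g₂⁻¹ := by group
      rw [h2]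
      exact mul_mem (mul_mem hg₂K (hD1 x hx)) (inv_mem hg₂K)
    obtain ⟨h, hh, hhx⟩ := h1
    have h3 : (g₂ * g₁ * x * (g₂ * g₁)⁻¹) * (Ψ h)⁻¹ ∈ I := by
      rw [← QuotientGroup.eq_one_iff]
      show mk ((g₂ * g₁ * x * (g₂ * g₁)⁻¹) * (Ψ h)⁻¹) = 1
      have h2 : mk (Ψ h) = mk (g₂ * g₁ * x * (g₂ * g₁)⁻¹) := hhx
      rw [map_mul, map_inv, h2, mul_inv_cancel]
    obtain ⟨s, hs⟩ := h3
    refine ⟨s, h, ?_, ?_⟩
    · intro m hm
      apply hθ1 _ (pow_mem hh _)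
      have h2 : θ h = mk (g₂ * g₁ * x * (g₂ * g₁)⁻¹) := hhx
      rw [map_pow, h2, ← map_pow, conj_pow]
      have h4 : g₂ * g₁ * x ^ m * (g₂ * g₁)⁻¹ ∈ I := hIn.conj_mem _ hm _
      exact (QuotientGroup.eq_one_iff _).2 h4
    · rw [hs, inv_mul_cancel_right]
  · intro f hf
    have h1 : MulAut.conj g₂ • (g₁ * f * g₁⁻¹) ∈ H' := by
      apply hg₂'
      rw [Subgroup.mem_smul_pointwise_iff_exists]
      refine ⟨g₁ * f * g₁⁻¹, ?_, rfl⟩
      rw [hΦ₁, Subgroup.mem_smul_pointwise_iff_exists]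
      exact ⟨f, hf, by rw [MulAut.smul_def, MulAut.conj_apply]⟩
    obtain ⟨γ, hγ, hγf⟩ := h1
    refine ⟨γ, hγ, ?_⟩
    rw [hγf, MulAut.smul_def, MulAut.conj_apply]
    group

end Cfsg.Agent.H55.PQ.Red
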