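import Cfsg.Agent.H54.PQ.Frame
import Cfsg.Agent.H55.PQ.RedConj
import Cfsg.Agent.Characters.Core

/-!
# S4981, RED: reduction of the fact on simple groups to field automorphisms (helper55)

`sfact_congr`, `sfact_of_field`, `sfact_of_coprime`, `sfact_of_comm` of `tools/plans/S4981_frame.lean`.
-/

set_option autoImplicit false
set_option linter.unusedVariables false

namespace Cfsg.Agent.H55.PQ.Red

open Subgroup Cfsg Cfsg.Agent.H54.PQ

universe u v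

section transport

variable {p q : ℕ} {S : Type u} {T : Type v} [Group S] [Group T]

theorem congr_apply' (e : S ≃* T) (f : MulAut S) (x : S) : MulAut.congr e f (e x) = e (f x) := by
  show e (f (e.symm (e x))) = e (f x)
  rw [e.symm_apply_apply]

theorem congr_conj (e : S ≃* T) (s : S) : MulAut.congr e (MulAut.conj s) = MulAut.conj (e s) := by
  ext x
  obtain ⟨y, rfl⟩ := e.surjective x
  rw [congr_apply', MulAut.conj_apply, MulAut.conj_apply, map_mul, map_mul, map_inv]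

theorem congr_self (g f : MulAut S) : MulAut.congr g f = g * f * g⁻¹ := rfl

theorem exists_sylow_map (e : S ≃* T) (P : Sylow p S) :
    ∃ Q : Sylow p T, (Q : Subgroup T) = (P : Subgroup S).map e.toMonoidHom := by
  have hinj : Function.Injective e.symm.toMonoidHom := e.symm.injective
  have hle : (P : Subgroup S) ≤ e.symm.toMonoidHom.range := by
    intro x _
    exact ⟨e x, e.symm_apply_apply x⟩
  refine ⟨P.comapOfInjective e.symm.toMonoidHom hinj hle, ?_⟩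
  rw [Sylow.coe_comapOfInjective]
  exact (Subgroup.map_equiv_eq_comap_symm e (P : Subgroup S)).symm

theorem sit_syl (e : S ≃* T) {A : Subgroup (MulAut S)}
    (h : ∃ P : Sylow p S, (P : Subgroup S).map (MulAut.conj : S →* MulAut S) ≤ A) :
    ∃ P : Sylow p T, (P : Subgroup T).map (MulAut.conj : T →* MulAut T) ≤ A.map (MulAut.congr e).toMonoidHom := by
  obtain ⟨P, hP⟩ := h
  obtain ⟨Q, hQ⟩ := exists_sylow_map e P
  refine ⟨Q, ?_⟩
  rintro _ ⟨y, hy, rfl⟩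
  rw [hQ] at hy
  obtain ⟨x, hx, rfl⟩ := hy
  exact ⟨MulAut.conj x, hP ⟨x, hx, rfl⟩, congr_conj e x⟩

theorem sit_congr (e : S ≃* T) {A Φ : Subgroup (MulAut S)} (h : Sit p q A Φ) :
    Sit p q (A.map (MulAut.congr e).toMonoidHom) (Φ.map (MulAut.congr e).toMonoidHom) where
  pA := h.pA.map _
  qΦ := h.qΦ.map _
  syl := sit_syl e h.syl
  norm := by
    rintro _ ⟨a, ha, rfl⟩ _ ⟨f, hf, rfl⟩
    have h1 := h.norm a ha f hf
    have h2 : (MulAut.congr e).toMonoidHom (a * f * a⁻¹) ∈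
        (Φ ⊔ (MulAut.conj : S →* MulAut S).range).map (MulAut.congr e).toMonoidHom := ⟨_, h1, rfl⟩
    rw [Subgroup.map_sup, map_mul, map_mul, map_inv] at h2
    have h3 : ((MulAut.conj : S →* MulAut S).range).map (MulAut.congr e).toMonoidHom ≤
        (MulAut.conj : T →* MulAut T).range := by
      rintro _ ⟨_, ⟨s, rfl⟩, rfl⟩
      exact ⟨e s, (congr_conj e s).symm⟩
    exact (sup_le_sup (le_refl (Φ.map (MulAut.congr e).toMonoidHom)) h3) h2

theorem invHyp_congr (e : S ≃* T) {A Φ : Subgroup (MulAut S)} (h : InvHyp p A Φ) :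
    InvHyp p (A.map (MulAut.congr e).toMonoidHom) (Φ.map (MulAut.congr e).toMonoidHom) := by
  intro χ hd hinv
  have h1 := h ⟨(χ : T → ℂ) ∘ e, Cfsg.Agent.Characters.Core.isIrr_comp e.toMonoidHom e.surjective χ.2⟩ (by
    have h2 : charDegree ((χ : T → ℂ) ∘ e) = charDegree (χ : T → ℂ) := by
      unfold charDegree
      rw [Function.comp_apply, map_one]
    show ¬ p ∣ charDegree ((χ : T → ℂ) ∘ e)
    rw [h2]
    exact hd) (by
    intro a ha g
    show (χ : T → ℂ) (e (a g)) = (χ : T → ℂ) (e g)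
    rw [← congr_apply' e a g]
    exact hinv _ ⟨a, ha, rfl⟩ (e g))
  rintro _ ⟨f, hf, rfl⟩ y
  obtain ⟨x, rfl⟩ := e.surjective y
  show (χ : T → ℂ) (MulAut.congr e f (e x)) = (χ : T → ℂ) (e x)
  rw [congr_apply']
  exact h1 f hf x

theorem centSyl_congr (e : S ≃* T) {Φ : Subgroup (MulAut S)}
    (h : CentSyl p (Φ.map (MulAut.congr e).toMonoidHom)) : CentSyl p Φ := by
  obtain ⟨P, hP⟩ := h
  obtain ⟨Q, hQ⟩ := exists_sylow_map e.symm P
  refine ⟨Q, fun f hf x hx => ?_⟩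
  have hx' : x ∈ (Q : Subgroup S) := hx
  rw [hQ] at hx'
  obtain ⟨y, hy, rfl⟩ := hx'
  have h1 := hP _ ⟨f, hf, rfl⟩ y hy
  obtain ⟨x, rfl⟩ := e.surjective y
  have h2 : (MulAut.congr e).toMonoidHom f (e x) = e (f x) := congr_apply' e f x
  rw [h2] at h1
  have h3 : e.symm.toMonoidHom (e x) = x := e.symm_apply_apply x
  rw [h3]
  exact e.injective h1

end transport

/-- `SFact` is invariant under isomorphisms -/
theorem sfact_congr {p q : ℕ} {S : Type u} {T : Type v} [Group S] [Group T] (e : S ≃* T) (h : SFact p q T) :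
    SFact p q S := by
  intro hp hq hpq hqS A Φ hsit hinv
  refine centSyl_congr e (h hp hq hpq ?_ _ _ (sit_congr e hsit) (invHyp_congr e hinv))
  rwa [← Nat.card_congr e.toEquiv]

/-- the group generated by `A`, `Φ` and the inner automorphisms is a `{p, q}`-group modulo inner automorphisms -/
theorem exists_pow_mem {p q : ℕ} {S : Type u} [Group S] [Finite S] {A Φ : Subgroup (MulAut S)} (h : Sit p q A Φ)
    (x : MulAut S) (hx : x ∈ A ⊔ (Φ ⊔ Inn S)) : ∃ j k : ℕ, x ^ (p ^ j * q ^ k) ∈ Inn S := by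
  set Θ := Φ ⊔ Inn S with hΘ
  -- `A` normalises `Θ`
  have hAn : ∀ a ∈ A, ∀ t ∈ Θ, a * t * a⁻¹ ∈ Θ := by
    intro a ha t ht
    rw [hΘ, ← SetLike.mem_coe, Subgroup.mul_normal] at ht
    obtain ⟨f, hf, i, hi, rfl⟩ := ht
    have h1 : a * (f * i) * a⁻¹ = (a * f * a⁻¹) * (a * i * a⁻¹) := by group
    show a * (f * i) * a⁻¹ ∈ Θ
    rw [h1]
    exact mul_mem (h.norm a ha f hf) (Subgroup.mem_sup_right ((inferInstance : (Inn S).Normal).conj_mem i hi a))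
  have hAN : A ≤ normalizer (Θ : Set (MulAut S)) := by
    intro a ha
    rw [Subgroup.mem_normalizer_iff]
    intro t
    constructor
    · exact hAn a ha t
    · intro ht
      have h1 := hAn a⁻¹ (inv_mem ha) _ ht
      have h2 : a⁻¹ * (a * t * a⁻¹) * a⁻¹⁻¹ = t := by group
      rwa [h2] at h1
  rw [← SetLike.mem_coe, Subgroup.coe_mul_of_left_le_normalizer_right _ _ hAN] at hx
  obtain ⟨a, ha, t, ht, rfl⟩ := hx
  obtain ⟨j, hj⟩ := h.pA ⟨a, ha⟩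
  have hj' : a ^ p ^ j = 1 := congrArg Subtype.val hj
  -- powers of `a t`
  have hpow : ∀ m : ℕ, ∃ t' ∈ Θ, (a * t) ^ m = a ^ m * t' := by
    intro m
    induction m with
    | zero => exact ⟨1, one_mem _, by simp⟩
    | succ m ih =>
      obtain ⟨t', ht', hm⟩ := ih
      refine ⟨(a⁻¹ * t' * a⁻¹⁻¹) * t, mul_mem (hAn a⁻¹ (inv_mem ha) _ ht') ht, ?_⟩
      rw [pow_succ, hm, pow_succ]
      group
  obtain ⟨t', ht', hm⟩ := hpow (p ^ j)
  rw [hj', one_mul] at hm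
  rw [hΘ, ← SetLike.mem_coe, Subgroup.mul_normal] at ht'
  obtain ⟨f, hf, i, hi, hfi⟩ := ht'
  obtain ⟨k, hk⟩ := h.qΦ ⟨f, hf⟩
  have hk' : f ^ q ^ k = 1 := congrArg Subtype.val hk
  refine ⟨j, k, ?_⟩
  show (a * t) ^ (p ^ j * q ^ k) ∈ Inn S
  rw [pow_mul, hm, ← QuotientGroup.eq_one_iff]
  have h3 : ((t' : MulAut S) : MulAut S ⧸ Inn S) = (f : MulAut S ⧸ Inn S) := by
    rw [← hfi]
    show ((f * i : MulAut S) : MulAut S ⧸ Inn S) = _
    rw [QuotientGroup.mk_mul, (QuotientGroup.eq_one_iff i).2 hi, mul_one]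
  rw [QuotientGroup.mk_pow, h3, ← QuotientGroup.mk_pow, hk', QuotientGroup.mk_one]

theorem prime_dvd_pow_mul {p q r j k : ℕ} (hr : r.Prime) (h : r ∣ p ^ j * q ^ k) : r ∣ p * q := by
  rcases (Nat.Prime.dvd_mul hr).1 h with h | h
  · exact (hr.dvd_of_dvd_pow h).mul_right _
  · exact (hr.dvd_of_dvd_pow h).mul_left _

/-- the situation after conjugation -/
theorem exists_conj_two {p q : ℕ} {S : Type u} [Group S] [Finite S]
    (hs : Group.IsSolvable (Cfsg.Out S)) {Γ : Type v} [Group Γ] [Finite Γ] (hc : ∀ a b : Γ, a * b = b * a)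
    (Ψ : Γ →* MulAut S)
    (hinn : ∀ γ : Γ, (orderOf γ).Prime → (orderOf γ = p ∨ orderOf γ = q) → Ψ γ ∉ Cfsg.Inn S)
    (hp : ∀ k : ℕ, p ^ k ∣ Nat.card (Cfsg.Out S) → p ^ k ∣ Nat.card Γ)
    (hq : ∀ k : ℕ, q ^ k ∣ Nat.card (Cfsg.Out S) → q ^ k ∣ Nat.card Γ)
    (hpp : p.Prime) (hqq : q.Prime) (hqS : ¬ q ∣ Nat.card S) {A Φ : Subgroup (MulAut S)} (h : Sit p q A Φ) :
    ∃ g : MulAut S, (∀ a ∈ A.map (MulAut.congr g).toMonoidHom, ∃ (s : S) (γ : Γ) (k : ℕ), orderOf γ = p ^ k ∧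
        a = MulAut.conj s * Ψ γ) ∧
      (∀ f ∈ Φ.map (MulAut.congr g).toMonoidHom, ∃ γ : Γ, (∃ k : ℕ, orderOf γ = q ^ k) ∧ f = Ψ γ) := by
  have hprime : ∀ r : ℕ, r.Prime → r ∣ p * q → r = p ∨ r = q := by
    intro r hr h
    rcases (Nat.Prime.dvd_mul hr).1 h with h | h
    · exact Or.inl ((Nat.prime_dvd_prime_iff_eq hr hpp).1 h)
    · exact Or.inr ((Nat.prime_dvd_prime_iff_eq hr hqq).1 h)
  obtain ⟨g, h1, h2⟩ := conj_main (n := p * q) hs hc Ψ (fun γ hγ hd => hinn γ hγ (hprime _ hγ hd))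
    (by
      intro r hr hrd k hk
      rcases hprime r hr hrd with rfl | rfl
      · exact hp k hk
      · exact hq k hk) hqq (Dvd.intro_left p rfl) hqS h.qΦ
    (D := A ⊔ (Φ ⊔ Inn S)) (le_sup_left.trans le_sup_right)
    (by
      intro x hx
      obtain ⟨j, k, hjk⟩ := exists_pow_mem h x hx
      exact ⟨p ^ j * q ^ k, fun r hr hrd => prime_dvd_pow_mul hr hrd, hjk⟩)
  refine ⟨g, ?_, ?_⟩
  · rintro _ ⟨a, ha, rfl⟩
    obtain ⟨s, γ, hγ, hag⟩ := h1 a (Subgroup.mem_sup_left ha)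
    obtain ⟨k, hk⟩ := h.pA ⟨a, ha⟩
    have hk' : a ^ p ^ k = 1 := congrArg Subtype.val hk
    have h3 : γ ^ p ^ k = 1 := hγ _ (by rw [hk']; exact one_mem _)
    obtain ⟨j, _, hj⟩ := (Nat.dvd_prime_pow hpp).1 (orderOf_dvd_of_pow_eq_one h3)
    exact ⟨s, γ, j, hj, hag⟩
  · rintro _ ⟨f, hf, rfl⟩
    obtain ⟨γ, ⟨k, hk⟩, hfg⟩ := h2 f hf
    obtain ⟨j, _, hj⟩ := (Nat.dvd_prime_pow hqq).1 (orderOf_dvd_of_pow_eq_one hk)
    exact ⟨γ, ⟨j, hj⟩, hfg⟩

/-- a group of automorphisms contained in the image of the `q`-part of a cyclic group -/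
theorem exists_generator_image {q : ℕ} (hq : q.Prime) {S : Type u} [Group S] {Γ : Type v} [Group Γ] [Finite Γ] [IsCyclic Γ]
    (Ψ : Γ →* MulAut S) {Φ : Subgroup (MulAut S)}
    (h : ∀ f ∈ Φ, ∃ γ : Γ, (∃ k : ℕ, orderOf γ = q ^ k) ∧ f = Ψ γ) :
    ∃ φ : Γ, (∃ k : ℕ, orderOf φ = q ^ k) ∧ Φ = Subgroup.zpowers (Ψ φ) := by
  have hc : ∀ a b : Γ, a * b = b * a := fun a b => (IsCyclic.isMulCommutative (α := Γ)).is_comm.comm a b
  set L : Subgroup Γ := Φ.comap Ψ ⊓ pip q Γ hc with hL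
  obtain ⟨x, hx⟩ := (inferInstance : IsCyclic L).exists_generator
  refine ⟨x, ?_, ?_⟩
  · obtain ⟨k, hk⟩ := (Subgroup.mem_inf.1 x.2).2
    obtain ⟨j, _, hj⟩ := (Nat.dvd_prime_pow hq).1 (orderOf_dvd_of_pow_eq_one hk)
    exact ⟨j, hj⟩
  · apply le_antisymm
    · intro f hf
      obtain ⟨γ, ⟨k, hk⟩, rfl⟩ := h f hf
      have h1 : γ ∈ L := ⟨hf, k, by rw [← hk]; exact pow_orderOf_eq_one γ⟩
      obtain ⟨j, hj⟩ := hx ⟨γ, h1⟩
      have hj' : (x : Γ) ^ j = γ := by simpa using congrArg Subtype.val hj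
      exact ⟨j, by rw [← hj', map_zpow]⟩
    · rw [Subgroup.zpowers_le]
      exact (Subgroup.mem_inf.1 x.2).1

/-- RED 1 : reduction to field automorphisms. `Γ` a cyclic group (the automorphisms of the field), `Ψ` its action; the `p`-
and the `q`-part of `|Out S|` divide `|Γ|`. -/
theorem sfact_of_field {p q : ℕ} {S : Type u} [Group S] [Finite S] (hZ : center S = ⊥)
    (hs : Group.IsSolvable (Cfsg.Out S)) {Γ : Type v} [Group Γ] [Finite Γ] [IsCyclic Γ] (Ψ : Γ →* MulAut S)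
    (hinn : ∀ γ : Γ, (orderOf γ).Prime → (orderOf γ = p ∨ orderOf γ = q) → Ψ γ ∉ Cfsg.Inn S)
    (hp : ∀ k : ℕ, p ^ k ∣ Nat.card (Cfsg.Out S) → p ^ k ∣ Nat.card Γ)
    (hq : ∀ k : ℕ, q ^ k ∣ Nat.card (Cfsg.Out S) → q ^ k ∣ Nat.card Γ)
    (main : p.Prime → q.Prime → p ≠ q → ¬ q ∣ Nat.card S → ∀ (A Φ : Subgroup (MulAut S)) (φ : Γ), φ ≠ 1 →
      FSit p q Ψ A Φ φ → InvHyp p A Φ → CentSyl p Φ) : SFact p q S := by
  intro hpp hqq hpq hqS A Φ hsit hinv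
  have := Fact.mk hpp
  have hc : ∀ a b : Γ, a * b = b * a := fun a b => (IsCyclic.isMulCommutative (α := Γ)).is_comm.comm a b
  obtain ⟨g, h1, h2⟩ := exists_conj_two hs hc Ψ hinn hp hq hpp hqq hqS hsit
  obtain ⟨φ, hφ, hΦφ⟩ := exists_generator_image hqq Ψ h2
  apply centSyl_congr (g : S ≃* S)
  by_cases hφ1 : φ = 1
  · have h3 : Φ.map (MulAut.congr g).toMonoidHom = ⊥ := by
      rw [hΦφ, hφ1, map_one, Subgroup.zpowers_one_eq_bot]
    rw [h3]
    exact centSyl_bot p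
  · exact main hpp hqq hpq hqS _ _ φ hφ1
      ⟨hsit.pA.map _, sit_syl (g : S ≃* S) hsit.syl, h1, hΦφ, hφ⟩ (invHyp_congr (g : S ≃* S) hinv)

/-- RED 2 : the same without information on `p` -/
theorem sfact_of_coprime {p q : ℕ} {S : Type u} [Group S] [Finite S] (hZ : center S = ⊥)
    (hs : Group.IsSolvable (Cfsg.Out S)) {Γ : Type v} [Group Γ] [Finite Γ] [IsCyclic Γ] (Ψ : Γ →* MulAut S)
    (hinn : ∀ γ : Γ, orderOf γ = q → Ψ γ ∉ Cfsg.Inn S)
    (hq : ∀ k : ℕ, q ^ k ∣ Nat.card (Cfsg.Out S) → q ^ k ∣ Nat.card Γ)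
    (main : p.Prime → q.Prime → p ≠ q → ¬ q ∣ Nat.card S → ∀ φ : Γ, φ ≠ 1 → (∃ k : ℕ, orderOf φ = q ^ k) →
      CentSyl p (Subgroup.zpowers (Ψ φ))) : SFact p q S := by
  intro hpp hqq hpq hqS A Φ hsit hinv
  have := Fact.mk hpp
  have hc : ∀ a b : Γ, a * b = b * a := fun a b => (IsCyclic.isMulCommutative (α := Γ)).is_comm.comm a b
  have hprime : ∀ r : ℕ, r.Prime → r ∣ q → r = q := fun r hr h => (Nat.prime_dvd_prime_iff_eq hr hqq).1 h
  obtain ⟨g, -, h2⟩ := conj_main (n := q) hs hc Ψ (fun γ hγ hd => hinn γ (hprime _ hγ hd))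
    (by
      intro r hr hrd k hk
      obtain rfl := hprime r hr hrd
      exact hq k hk) hqq dvd_rfl hqS hsit.qΦ
    (D := Φ) le_rfl
    (by
      intro x hx
      obtain ⟨k, hk⟩ := hsit.qΦ ⟨x, hx⟩
      have hk' : x ^ q ^ k = 1 := congrArg Subtype.val hk
      exact ⟨q ^ k, fun r hr hrd => hr.dvd_of_dvd_pow hrd, by rw [hk']; exact one_mem _⟩)
  have h3 : ∀ f ∈ Φ.map (MulAut.congr g).toMonoidHom, ∃ γ : Γ, (∃ k : ℕ, orderOf γ = q ^ k) ∧ f = Ψ γ := by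
    rintro _ ⟨f, hf, rfl⟩
    obtain ⟨γ, ⟨k, hk⟩, hfg⟩ := h2 f hf
    obtain ⟨j, _, hj⟩ := (Nat.dvd_prime_pow hqq).1 (orderOf_dvd_of_pow_eq_one hk)
    exact ⟨γ, ⟨j, hj⟩, hfg⟩
  obtain ⟨φ, hφ, hΦφ⟩ := exists_generator_image hqq Ψ h3
  apply centSyl_congr (g : S ≃* S)
  by_cases hφ1 : φ = 1
  · have h4 : Φ.map (MulAut.congr g).toMonoidHom = ⊥ := by
      rw [hΦφ, hφ1, map_one, Subgroup.zpowers_one_eq_bot]
    rw [h4]
    exact centSyl_bot p
  · rw [hΦφ]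
    exact main hpp hqq hpq hqS φ hφ1 hφ

/-- RED 3 : reduction to field and graph automorphisms: `Γ` abelian. -/
theorem sfact_of_comm {p q : ℕ} {S : Type u} [Group S] [Finite S] (hZ : center S = ⊥)
    (hs : Group.IsSolvable (Cfsg.Out S)) {Γ : Type v} [CommGroup Γ] [Finite Γ] (Ψ : Γ →* MulAut S)
    (hinn : ∀ γ : Γ, (orderOf γ).Prime → (orderOf γ = p ∨ orderOf γ = q) → Ψ γ ∉ Cfsg.Inn S)
    (hp : ∀ k : ℕ, p ^ k ∣ Nat.card (Cfsg.Out S) → p ^ k ∣ Nat.card Γ)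
    (hq : ∀ k : ℕ, q ^ k ∣ Nat.card (Cfsg.Out S) → q ^ k ∣ Nat.card Γ)
    (main : p.Prime → q.Prime → p ≠ q → ¬ q ∣ Nat.card S → ∀ (A Φ : Subgroup (MulAut S)), IsPGroup p A →
      (∃ P : Sylow p S, (P : Subgroup S).map (MulAut.conj : S →* MulAut S) ≤ A) →
      (∀ a ∈ A, ∃ (s : S) (γ : Γ) (k : ℕ), orderOf γ = p ^ k ∧ a = MulAut.conj s * Ψ γ) →
      (∀ φ : Γ, φ ≠ 1 → (∃ k : ℕ, orderOf φ = q ^ k) → Ψ φ ∈ Φ → InvHyp p A Φ → False)) : SFact p q S := by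
  intro hpp hqq hpq hqS A Φ hsit hinv
  have := Fact.mk hpp
  obtain ⟨g, h1, h2⟩ := exists_conj_two hs (fun a b => mul_comm a b) Ψ hinn hp hq hpp hqq hqS hsit
  apply centSyl_congr (g : S ≃* S)
  have h3 : Φ.map (MulAut.congr g).toMonoidHom = ⊥ := by
    rw [eq_bot_iff]
    intro f hf
    rw [Subgroup.mem_bot]
    obtain ⟨γ, hγ, rfl⟩ := h2 f hf
    by_cases hγ1 : γ = 1
    · rw [hγ1, map_one]
    · exact (main hpp hqq hpq hqS _ _ (hsit.pA.map _) (sit_syl (g : S ≃* S) hsit.syl) h1 γ hγ1 hγ hf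
        (invHyp_congr (g : S ≃* S) hinv)).elim
  rw [h3]
  exact centSyl_bot p

end Cfsg.Agent.H55.PQ.Red
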