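import Cfsg.Agent.H54.PQ.Frame
import Cfsg.Agent.H239.PQMackey
import Mathlib.GroupTheory.FiniteAbelian.Duality

/-!
# S4981, PR: defining characteristic (helper55)

`pr_false` : the statement of `tools/plans/S4981_frame.lean` with the additional hypothesis that `T` has order prime to `p`.
-/

set_option autoImplicit false
set_option linter.unusedVariables false

namespace Cfsg.Agent.H55.PQ

open Subgroup Cfsg Cfsg.Agent.H54.PQ

universe u v

namespace Pr

/-- a linear character of `B`, trivial on `U`, non-trivial at `y ∉ U` -/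
theorem exists_char {S : Type u} [Group S] [Finite S] (B T U : Subgroup S) (hTB : T ≤ B) (hUB : U ≤ B)
    [hN : (U.subgroupOf B).Normal] (hUT : U ⊔ T = B) (hTc : ∀ t ∈ T, ∀ t' ∈ T, t * t' = t' * t) {y : B}
    (hy : (y : S) ∉ U) : ∃ ψ : B →* ℂˣ, (∀ b : B, (b : S) ∈ U → ψ b = 1) ∧ ψ y ≠ 1 := by
  have htop : (U.subgroupOf B) ⊔ (T.subgroupOf B) = ⊤ := by
    rw [← Subgroup.subgroupOf_sup hUB hTB, hUT, Subgroup.subgroupOf_self]
  have hmap : (T.subgroupOf B).map (QuotientGroup.mk' (U.subgroupOf B)) = ⊤ := by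
    have h1 : (⊤ : Subgroup B).map (QuotientGroup.mk' (U.subgroupOf B)) = ⊤ :=
      Subgroup.map_top_of_surjective _ (QuotientGroup.mk'_surjective _)
    rw [← htop, Subgroup.map_sup] at h1
    have h2 : (U.subgroupOf B).map (QuotientGroup.mk' (U.subgroupOf B)) = ⊥ := by
      rw [Subgroup.map_eq_bot_iff, QuotientGroup.ker_mk']
    rwa [h2, bot_sup_eq] at h1
  have hcomm : ∀ x z : B ⧸ U.subgroupOf B, x * z = z * x := by
    intro x z
    have hx : x ∈ (T.subgroupOf B).map (QuotientGroup.mk' (U.subgroupOf B)) := by rw [hmap]; trivial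
    have hz : z ∈ (T.subgroupOf B).map (QuotientGroup.mk' (U.subgroupOf B)) := by rw [hmap]; trivial
    obtain ⟨a, ha, rfl⟩ := hx
    obtain ⟨b, hb, rfl⟩ := hz
    rw [← map_mul, ← map_mul]
    congr 1
    exact Subtype.ext (hTc _ ha _ hb)
  let _ : CommGroup (B ⧸ U.subgroupOf B) := { (inferInstance : Group (B ⧸ U.subgroupOf B)) with mul_comm := hcomm }
  have hne : (QuotientGroup.mk' (U.subgroupOf B) y) ≠ 1 := by
    intro h
    apply hy
    have h1 : y ∈ (QuotientGroup.mk' (U.subgroupOf B)).ker := h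
    rw [QuotientGroup.ker_mk'] at h1
    exact h1
  obtain ⟨χ, hχ⟩ := CommGroup.exists_apply_ne_one_of_hasEnoughRootsOfUnity (B ⧸ U.subgroupOf B) ℂ hne
  refine ⟨χ.comp (QuotientGroup.mk' (U.subgroupOf B)), fun b hb => ?_, hχ⟩
  have h1 : QuotientGroup.mk' (U.subgroupOf B) b = 1 := by
    have h2 : b ∈ (QuotientGroup.mk' (U.subgroupOf B)).ker := by
      rw [QuotientGroup.ker_mk']
      exact hb
    exact h2
  rw [MonoidHom.comp_apply, h1, map_one]

/-- the inner automorphisms determine their element -/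
theorem conj_injective {S : Type u} [Group S] (hZ : center S = ⊥) :
    Function.Injective (MulAut.conj : S →* MulAut S) := by
  rw [injective_iff_map_eq_one]
  intro s hs
  have h1 : s ∈ center S := by
    rw [mem_center_iff]
    intro g
    have h2 : MulAut.conj s g = g := by rw [hs]; rfl
    rw [MulAut.conj_apply] at h2
    exact (mul_inv_eq_iff_eq_mul.1 h2).symm
  rwa [hZ, mem_bot] at h1

theorem mul_conj {S : Type u} [Group S] (a : MulAut S) (s : S) :
    a * MulAut.conj s = MulAut.conj (a s) * a := by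
  ext x
  simp [MulAut.mul_apply]

/-- a subgroup mapped into itself by an automorphism -/
theorem map_eq_of_le {S : Type u} [Group S] [Finite S] {B : Subgroup S} {f : MulAut S} (h : ∀ b ∈ B, f b ∈ B) :
    B.map (f : MulAut S).toMonoidHom = B := by
  apply Subgroup.eq_of_le_of_card_ge
  · rintro _ ⟨b, hb, rfl⟩
    exact h b hb
  · rw [Nat.card_congr (B.equivMapOfInjective (f : MulAut S).toMonoidHom f.injective).symm.toEquiv]

theorem inv_mem_of {S : Type u} [Group S] [Finite S] {B : Subgroup S} {f : MulAut S} (h : ∀ b ∈ B, f b ∈ B) {b : S}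
    (hb : b ∈ B) : f⁻¹ b ∈ B := by
  have h1 := map_eq_of_le h
  rw [← h1] at hb
  obtain ⟨c, hc, rfl⟩ := hb
  have h2 : f⁻¹ ((f : MulAut S).toMonoidHom c) = c := f.symm_apply_apply c
  rw [h2]
  exact hc

/-- an automorphism stabilises the normaliser of a subgroup which it stabilises -/
theorem normalizer_stab {S : Type u} [Group S] [Finite S] {U : Subgroup S} {f : MulAut S} (h : ∀ b ∈ U, f b ∈ U) {b : S}
    (hb : b ∈ normalizer (U : Set S)) : f b ∈ normalizer (U : Set S) := by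
  rw [mem_normalizer_iff] at hb ⊢
  have key : ∀ x, x ∈ U ↔ f x ∈ U := by
    intro x
    refine ⟨h x, fun hx => ?_⟩
    have h1 := inv_mem_of h hx
    have h2 : f⁻¹ (f x) = x := f.symm_apply_apply x
    rwa [h2] at h1
  intro x
  obtain ⟨y, rfl⟩ := f.surjective x
  rw [← map_inv, ← map_mul, ← map_mul]
  constructor
  · intro hx
    exact h _ ((hb y).1 ((key y).2 hx))
  · intro hx
    exact h _ ((hb y).2 ((key _).2 hx))

/-- the invariance hypothesis for a conjugate of `A` by an inner automorphism -/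
theorem invHyp_conj {p : ℕ} {S : Type u} [Group S] {A Φ Φ' : Subgroup (MulAut S)} (hinv : InvHyp p A Φ) (x : S)
    (hΦ : Φ' ≤ Φ) : InvHyp p (A.map (MulAut.conj (MulAut.conj x : MulAut S)).toMonoidHom) Φ' := by
  intro χ hd hA f hf
  refine hinv χ hd (fun a ha g => ?_) f (hΦ hf)
  obtain ⟨n, ρ, -, hρ⟩ := χ.2
  have hcl : ∀ s y : S, (χ : S → ℂ) (s * y * s⁻¹) = (χ : S → ℂ) y := by
    intro s y
    have h1 : (χ : S → ℂ) = ρ.character := by first | exact hρ | exact hρ.symm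
    rw [h1]
    exact ρ.char_conj y s
  have h1 := hA _ (mem_map_of_mem (MulAut.conj (MulAut.conj x : MulAut S)).toMonoidHom ha) (x * g * x⁻¹)
  have h2 : (MulAut.conj (MulAut.conj x : MulAut S)).toMonoidHom a (x * g * x⁻¹) = x * a g * x⁻¹ := by
    show (MulAut.conj x * a * (MulAut.conj x)⁻¹) (x * g * x⁻¹) = _
    have h3 : (MulAut.conj x : MulAut S)⁻¹ (x * g * x⁻¹) = g := by
      rw [← map_inv, MulAut.conj_apply]
      group
    rw [MulAut.mul_apply, MulAut.mul_apply, h3, MulAut.conj_apply]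
  rw [h2, hcl, hcl] at h1
  exact h1

/-- a conjugate of `A` by an inner automorphism stabilises the Sylow subgroup `U` -/
theorem exists_conj_norm {p : ℕ} [Fact p.Prime] {S : Type u} [Group S] [Finite S] (hZ : center S = ⊥)
    {A : Subgroup (MulAut S)} (hA : IsPGroup p A)
    (hsyl : ∃ P : Sylow p S, (P : Subgroup S).map (MulAut.conj : S →* MulAut S) ≤ A) {U : Subgroup S}
    (hU : IsPGroup p U) (hUi : ¬ p ∣ U.index) :
    ∃ x : S, ∀ a ∈ A.map (MulAut.conj (MulAut.conj x : MulAut S)).toMonoidHom, ∀ u ∈ U, a u ∈ U := by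
  obtain ⟨P, hP⟩ := hsyl
  obtain ⟨x, hx⟩ := MulAction.exists_smul_eq S P (hU.toSylow hUi)
  refine ⟨x, ?_⟩
  set A' := A.map (MulAut.conj (MulAut.conj x : MulAut S)).toMonoidHom with hA'
  have hpA' : IsPGroup p A' := hA.map _
  have hUx : ∀ u ∈ U, MulAut.conj u ∈ A' := by
    intro u hu
    have h1 : u ∈ (x • P : Sylow p S) := by rw [hx]; exact (hU.mem_toSylow hUi).2 hu
    have h2 : x⁻¹ * u * x ∈ P := by
      have h3 : u ∈ ((x • P : Sylow p S) : Subgroup S) := h1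
      rw [Sylow.smul_def, Sylow.pointwise_smul_def, Subgroup.mem_pointwise_smul_iff_inv_smul_mem] at h3
      rw [← map_inv, MulAut.smul_def, MulAut.conj_apply, inv_inv] at h3
      exact h3
    refine ⟨MulAut.conj (x⁻¹ * u * x), hP (mem_map_of_mem _ h2), ?_⟩
    show MulAut.conj x * MulAut.conj (x⁻¹ * u * x) * (MulAut.conj x)⁻¹ = _
    rw [← map_inv, ← map_mul, ← map_mul]
    congr 1
    group
  have hV : IsPGroup p (A'.comap (MulAut.conj : S →* MulAut S)) :=
    hpA'.comap_of_injective _ (conj_injective hZ)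
  have hUV : U ≤ A'.comap (MulAut.conj : S →* MulAut S) := hUx
  have hVU : A'.comap (MulAut.conj : S →* MulAut S) = U := (hU.toSylow hUi).is_maximal' hV hUV
  intro a ha u hu
  have h1 : a u ∈ A'.comap (MulAut.conj : S →* MulAut S) := by
    rw [mem_comap]
    have h2 : MulAut.conj (a u) = a * MulAut.conj u * a⁻¹ := by rw [mul_conj, mul_inv_cancel_right]
    rw [h2]
    exact mul_mem (mul_mem ha (hUx u hu)) (inv_mem ha)
  rwa [hVU] at h1

theorem form_conj {p : ℕ} {S : Type u} [Group S] {Γ : Type v} [Group Γ] {Ψ : Γ →* MulAut S}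
    {A : Subgroup (MulAut S)}
    (ha : ∀ a ∈ A, ∃ (s : S) (γ : Γ) (k : ℕ), orderOf γ = p ^ k ∧ a = MulAut.conj s * Ψ γ) (x : S) :
    ∀ a ∈ A.map (MulAut.conj (MulAut.conj x : MulAut S)).toMonoidHom,
      ∃ (s : S) (γ : Γ) (k : ℕ), orderOf γ = p ^ k ∧ a = MulAut.conj s * Ψ γ := by
  rintro _ ⟨a, haA, rfl⟩
  obtain ⟨s, γ, k, hk, rfl⟩ := ha a haA
  refine ⟨x * s * Ψ γ x⁻¹, γ, k, hk, ?_⟩
  show MulAut.conj x * (MulAut.conj s * Ψ γ) * (MulAut.conj x)⁻¹ = _
  rw [← map_inv, mul_assoc, mul_assoc, mul_conj, map_mul, map_mul]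
  simp only [mul_assoc]

end Pr

open Pr

/-- **PR : defining characteristic.** -/
theorem pr_false {p q : ℕ} [Fact p.Prime] [Fact q.Prime] (hpq : p ≠ q) {S : Type u} [Group S] [Finite S]
    (hZ : center S = ⊥) (hqS : ¬ q ∣ Nat.card S) {Γ : Type v} [CommGroup Γ] [Finite Γ] (Ψ : Γ →* MulAut S)
    {A Φ : Subgroup (MulAut S)} (hA : IsPGroup p A)
    (hsyl : ∃ P : Sylow p S, (P : Subgroup S).map (MulAut.conj : S →* MulAut S) ≤ A)
    (ha : ∀ a ∈ A, ∃ (s : S) (γ : Γ) (k : ℕ), orderOf γ = p ^ k ∧ a = MulAut.conj s * Ψ γ) (hinv : InvHyp p A Φ)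
    {φ : Γ} (hφq : ∃ k : ℕ, orderOf φ = q ^ k) (hφ : Ψ φ ∈ Φ) (B N T U : Subgroup S)
    (hU : IsPGroup p U) (hUi : ¬ p ∣ U.index) (hBNB : ∀ g : S, ∃ b ∈ B, ∃ n ∈ N, ∃ b' ∈ B, g = b * n * b')
    (hTB : T ≤ B) (hTN : T ≤ N) (hUT : U ⊔ T = B) (hUB : normalizer (U : Set S) = B)
    (hTc : ∀ t ∈ T, ∀ t' ∈ T, t * t' = t' * t) (hNT : ∀ n ∈ N, ∀ t ∈ T, n * t * n⁻¹ ∈ T)
    (hγU : ∀ (γ : Γ) (k : ℕ), orderOf γ = p ^ k → ∀ u ∈ U, Ψ γ u ∈ U) (hφU : ∀ u ∈ U, Ψ φ u ∈ U)
    (hφT : ∀ t ∈ T, Ψ φ t ∈ T) (hφN : ∀ n ∈ N, n⁻¹ * Ψ φ n ∈ T) {t : S} (ht : t ∈ T)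
    (htp : ∀ (γ : Γ) (k : ℕ), orderOf γ = p ^ k → Ψ γ t = t) (htφ : Ψ φ t ≠ t) (hTp : (Nat.card T).Coprime p) :
    False := by
  classical
  have hp : p.Prime := Fact.out
  have hq : q.Prime := Fact.out
  obtain ⟨x, hx⟩ := exists_conj_norm hZ hA hsyl hU hUi
  have ha' := form_conj ha x
  have hinv' := invHyp_conj (Φ' := Subgroup.zpowers (Ψ φ)) hinv x ((zpowers_le).2 hφ)
  have hpA' : IsPGroup p (A.map (MulAut.conj (MulAut.conj x : MulAut S)).toMonoidHom) := hA.map _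
  generalize A.map (MulAut.conj (MulAut.conj x : MulAut S)).toMonoidHom = A' at hx ha' hinv' hpA'
  -- the subgroup `B`
  have hUleB : U ≤ B := by rw [← hUB]; exact le_normalizer
  have hnorm : (U.subgroupOf B).Normal := by
    rw [← hUB]
    infer_instance
  have hstab : ∀ f : MulAut S, (∀ u ∈ U, f u ∈ U) → ∀ b ∈ B, f b ∈ B := by
    intro f hf b hb
    rw [← hUB] at hb ⊢
    exact normalizer_stab hf hb
  -- the `p`-part of `Γ`
  have := Fintype.ofFinite (CommGroup.primaryComponent Γ p)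
  have hΓp : ∀ γ : CommGroup.primaryComponent Γ p, ∃ k : ℕ, orderOf (γ : Γ) = p ^ k := fun γ =>
    CommGroup.mem_primaryComponent_iff_orderOf.1 γ.2
  let r : CommGroup.primaryComponent Γ p → (B →* B) := fun γ =>
    ((Ψ (γ : Γ)).toMonoidHom.comp B.subtype).codRestrict B (fun b => by
      obtain ⟨k, hk⟩ := hΓp γ
      exact hstab _ (hγU _ k hk) _ b.2)
  have hr : ∀ γ b, ((r γ b : B) : S) = Ψ (γ : Γ) (b : S) := fun γ b => rfl
  -- the element
  let t' : B := ⟨Ψ φ t, hTB (hφT t ht)⟩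
  let tB : B := ⟨t, hTB ht⟩
  have hyT : ((t' * tB⁻¹ : B) : S) ∈ T := mul_mem (hφT t ht) (inv_mem ht)
  have hyord : ∀ y : S, y ∈ T → ∀ n : ℕ, y ^ p ^ n = 1 → y = 1 := by
    intro y hy n hn
    have h1 : y ^ Nat.card T = 1 := by
      have h2 : (⟨y, hy⟩ : T) ^ Nat.card T = 1 := pow_card_eq_one'
      exact congrArg Subtype.val h2
    have h3 : orderOf y ∣ Nat.gcd (Nat.card T) (p ^ n) :=
      Nat.dvd_gcd (orderOf_dvd_of_pow_eq_one h1) (orderOf_dvd_of_pow_eq_one hn)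
    rw [(hTp.pow_right n).gcd_eq_one] at h3
    exact orderOf_eq_one_iff.1 (Nat.dvd_one.1 h3)
  have hyU : ((t' * tB⁻¹ : B) : S) ∉ U := by
    intro h
    obtain ⟨k, hk⟩ := hU ⟨_, h⟩
    have h1 := hyord _ hyT k (congrArg Subtype.val hk)
    apply htφ
    exact mul_inv_eq_one.1 h1
  obtain ⟨ψ0, hψ0U, hψ0⟩ := exists_char B T U hTB hUleB hUT hTc hyU
  let ψ : B →* ℂˣ := ∏ γ : CommGroup.primaryComponent Γ p, ψ0.comp (r γ)
  have hψ : ∀ b, ψ b = ∏ γ : CommGroup.primaryComponent Γ p, ψ0 (r γ b) := by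
    intro b
    rw [MonoidHom.finsetProd_apply]
    rfl
  have hψr : ∀ (γ₀ : CommGroup.primaryComponent Γ p) (b : B), ψ (r γ₀ b) = ψ b := by
    intro γ₀ b
    rw [hψ, hψ]
    refine Fintype.prod_equiv (Equiv.mulRight γ₀) _ _ fun γ => ?_
    congr 1
    apply Subtype.ext
    rw [hr, hr, hr, Equiv.coe_mulRight, Subgroup.coe_mul, map_mul, MulAut.mul_apply]
  refine H239.PQMackey.mackey (p := p) (q := q) hpA' (Φ := Subgroup.zpowers (Ψ φ)) ?_ hinv' B N T U hBNB hTB hUleB hnorm hUT hNT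
    ?_ ?_ (fun a ha => map_eq_of_le (hstab a (hx a ha))) (mem_zpowers _) hφT (map_eq_of_le (hstab _ hφU))
    (map_eq_of_le hφU) ?_ ψ ?_ ?_ (t := tB) (t' := t') ht rfl ?_
  · -- `Φ'` is a `q`-group
    obtain ⟨k, hk⟩ := hφq
    have h1 : (Ψ φ) ^ q ^ k = 1 := by
      rw [← map_pow, ← hk, pow_orderOf_eq_one, map_one]
    rintro ⟨g, hg⟩
    obtain ⟨j, rfl⟩ := mem_zpowers_iff.1 hg
    refine ⟨k, Subtype.ext ?_⟩
    show ((Ψ φ) ^ j) ^ q ^ k = 1
    rw [← zpow_natCast, ← zpow_mul, mul_comm, zpow_mul, zpow_natCast, h1, one_zpow]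
  · intro n hn
    refine ⟨Nat.card S, hqS, fun s hs => ?_⟩
    rw [pow_card_eq_one', one_mul, inv_one, mul_one]
  · intro h
    exact hUi (h.trans (Subgroup.index_dvd_of_le hUleB))
  · intro n hn s hs
    have h1 : Ψ φ n = n * (n⁻¹ * Ψ φ n) := by group
    have h2 := hφN n hn
    rw [map_mul, map_mul, map_inv, h1]
    generalize n⁻¹ * Ψ φ n = τ at h2
    have h3 := hTc τ h2 _ (hφT s hs)
    rw [mul_inv_rev]
    calc n * τ * Ψ φ s * (τ⁻¹ * n⁻¹) = n * (τ * Ψ φ s) * τ⁻¹ * n⁻¹ := by group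
      _ = n * Ψ φ s * n⁻¹ := by rw [h3]; group
  · intro b hb
    rw [hψ]
    refine Finset.prod_eq_one fun γ _ => hψ0U _ ?_
    obtain ⟨k, hk⟩ := hΓp γ
    exact hγU _ k hk _ hb
  · intro a haA b b' hb
    obtain ⟨s, γ, k, hk, rfl⟩ := ha' a haA
    have hs : s ∈ B := by
      have h1 : ∀ u ∈ U, MulAut.conj s u ∈ U := by
        intro u hu
        have h2 := hx _ haA _ (inv_mem_of (hγU γ k hk) hu)
        have h3 : (MulAut.conj s * Ψ γ) ((Ψ γ)⁻¹ u) = MulAut.conj s u := by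
          rw [← MulAut.mul_apply, mul_inv_cancel_right]
        rwa [h3] at h2
      rw [← hUB, mem_normalizer_iff]
      intro y
      refine ⟨h1 y, fun hy => ?_⟩
      have h2 := inv_mem_of h1 hy
      have h3 : (MulAut.conj s : MulAut S)⁻¹ (s * y * s⁻¹) = y := by
        rw [← map_inv, MulAut.conj_apply]
        group
      rwa [h3] at h2
    have h1 : b' = ⟨s, hs⟩ * r ⟨γ, CommGroup.mem_primaryComponent_iff_orderOf.2 ⟨k, hk⟩⟩ b * ⟨s, hs⟩⁻¹ := by
      apply Subtype.ext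
      rw [hb]
      rfl
    rw [h1, map_mul, map_mul, map_inv, hψr, mul_comm (ψ ⟨s, hs⟩), mul_inv_cancel_right]
  · have hfix : ∀ γ : CommGroup.primaryComponent Γ p, r γ tB = tB := by
      intro γ
      obtain ⟨k, hk⟩ := hΓp γ
      exact Subtype.ext (htp _ k hk)
    have hfix' : ∀ γ : CommGroup.primaryComponent Γ p, r γ t' = t' := by
      intro γ
      obtain ⟨k, hk⟩ := hΓp γ
      apply Subtype.ext
      rw [hr]
      show Ψ (γ : Γ) (Ψ φ t) = Ψ φ t
      rw [← MulAut.mul_apply, ← map_mul, mul_comm, map_mul, MulAut.mul_apply, htp _ k hk]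
    intro h
    rw [hψ, hψ] at h
    simp only [hfix, hfix', Finset.prod_const, Finset.card_univ] at h
    obtain ⟨m, hm⟩ := (IsPGroup.iff_card.1 (CommGroup.primaryComponent.isPGroup (G := Γ) (p := p)))
    rw [Nat.card_eq_fintype_card] at hm
    rw [hm] at h
    have h1 : (ψ0 (t' * tB⁻¹)) ^ p ^ m = 1 := by
      rw [map_mul, map_inv, mul_pow, inv_pow, h, mul_inv_cancel]
    have h2 : (ψ0 (t' * tB⁻¹)) ^ Nat.card T = 1 := by
      have h3 : (t' * tB⁻¹) ^ Nat.card T = 1 := by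
        have h4 : (⟨_, hyT⟩ : T) ^ Nat.card T = 1 := pow_card_eq_one'
        have h5 := congrArg Subtype.val h4
        exact Subtype.ext h5
      rw [← map_pow, h3, map_one]
    have h3 : orderOf (ψ0 (t' * tB⁻¹)) ∣ Nat.gcd (Nat.card T) (p ^ m) :=
      Nat.dvd_gcd (orderOf_dvd_of_pow_eq_one h2) (orderOf_dvd_of_pow_eq_one h1)
    rw [(hTp.pow_right m).gcd_eq_one] at h3
    exact hψ0 (orderOf_eq_one_iff.1 (Nat.dvd_one.1 h3))

end Cfsg.Agent.H55.PQ
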